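import Groth.Agent.EtDual.K147.Cover
import Groth.Agent.EtDual.K617.TauDesc

/-!
# (E1) in the form used by descent along `w`-coverings (seat 147)
-/

set_option autoImplicit false

universe u

namespace K147.VR

/-- every ring has a `v`-covering by a product of absolutely integrally closed valuation rings -/
theorem hasProdCover : K617.TauDesc.HasProdCover.{u} := fun R _ => exists_prod_vcov R

end K147.VR
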