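import Groth.Agent.EtDual.K147.PerfCover
import Groth.Agent.EtDual.K933.SharpFun

/-!
# `w`-coverings in the category of perfect algebras (seat 147)

`exists_tcov a T`: for `T : PC p B₀` and `a : B₀` there is `f : X ⟶ T` in `tcov a` such that the ring of `X` is a
product of perfect, `a`-complete, absolutely integrally closed valuation rings.
-/

set_option autoImplicit false

universe u v

open CategoryTheory CategoryTheory.Limits Opposite
open K617.VC K148.Perf K933.PerfCat

namespace K147.VR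

variable {p : ℕ} [hp : Fact p.Prime] {B₀ : CommRingCat.{u}}

theorem exists_tcov (a : B₀) (T : PC p B₀) :
    ∃ (I : Type u) (V : I → Type u) (_ : ∀ i, CommRing (V i)) (_ : ∀ i, IsDomain (V i))
      (_ : ∀ i, ValuationRing (V i)) (X : PC p B₀) (f : X ⟶ T)
      (e : (X.unop.obj.right : Type u) ≃+* ∀ i, V i), tcov a f ∧
      (∀ i, Groth.Agent.Flat2E.AIC1.IsAIC (V i)) ∧
      (∀ i, IsAicc (V i) (e (X.unop.obj.hom.hom a) i)) ∧ (∀ i, IsPerf p (V i)) := by
  obtain ⟨I, V, _, φ, hV, hP, hpi, hφ⟩ := exists_perf_cover T.unop.property (T.unop.obj.hom.hom a)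
  let X₀ : Under B₀ := Under.mk (T.unop.obj.hom ≫ CommRingCat.ofHom φ :
    B₀ ⟶ CommRingCat.of (∀ i, V i))
  let g : T.unop ⟶ Perf.mk X₀ hpi := ObjectProperty.homMk
    (Under.homMk (CommRingCat.ofHom φ) rfl : T.unop.obj ⟶ X₀)
  exact ⟨I, V, inferInstance, fun i => (hV i).isDomain, fun i => (hV i).valuationRing.2,
    op (Perf.mk X₀ hpi), g.op, RingEquiv.refl _, hφ, fun i => isAIC_of_curves (hV i).aic, hV, hP⟩

end K147.VR
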