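import Mathlib.RingTheory.Valuation.ValuationRing
import Mathlib.RingTheory.Valuation.LocalSubring
import Groth.Agent.Flat2E.AIC1

/-!
# Absolutely integrally closed rings (additions to `Flat2E.AIC1`)
-/

set_option autoImplicit false

open Polynomial IsLocalRing
open Groth.Agent.Flat2E.AIC1 (IsAIC)

namespace K147.VR

variable {V W : Type*} [CommRing V] [CommRing W]

/-- splitting of monic polynomials -/
theorem exists_prod (h : IsAIC V) (n : ℕ) (f : V[X]) (hf : f.Monic) (hd : f.natDegree = n) :
    ∃ s : Fin n → V, f = ∏ i, (X - C (s i)) := by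
  rcases subsingleton_or_nontrivial V with hV | hV
  · exact ⟨fun _ => 0, Subsingleton.elim _ _⟩
  obtain ⟨s, hs⟩ := h.exists_multiset n f hf hd
  have hc : s.card = n := by
    rw [← hd, hs, natDegree_multiset_prod_X_sub_C_eq_card]
  obtain ⟨l, rfl⟩ := Quot.exists_rep s
  have hl : l.length = n := hc
  subst hl
  refine ⟨fun i => l.get i, ?_⟩
  rw [hs]
  show (Multiset.map (fun a => X - C a) (l : Multiset V)).prod = _
  rw [Multiset.map_coe, Multiset.prod_coe]
  conv_lhs => rw [← List.ofFn_get l]
  rw [List.map_ofFn, List.prod_ofFn]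
  rfl

theorem isAIC_of_isAlgClosed [IsDomain V] [IsIntegrallyClosed V] (K : Type*) [Field K] [Algebra V K]
    [IsFractionRing V K] [IsAlgClosed K] : IsAIC V := by
  intro f hf hd
  obtain ⟨x, hx⟩ := IsAlgClosed.exists_root (f.map (algebraMap V K)) (by
    rw [degree_map_eq_of_injective (IsFractionRing.injective V K), degree_eq_natDegree hf.ne_zero]
    exact_mod_cast hd)
  obtain ⟨y, hy⟩ := (IsIntegrallyClosed.isIntegral_iff (R := V) (K := K)).mp
    (⟨f, hf, by rwa [IsRoot.def, eval_map] at hx⟩ : IsIntegral V x)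
  refine ⟨y, IsFractionRing.injective V K ?_⟩
  rw [map_zero, ← hx.eq_zero, ← hy, eval_map_apply]

end K147.VR
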