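import Groth.Agent.EtDual.K147.Dom
import Mathlib.RingTheory.Flat.TorsionFree
import Mathlib.RingTheory.Valuation.ValuationRing

/-!
# Common extensions of valuation rings
-/

set_option autoImplicit false

universe u v

open IsLocalRing TensorProduct
open Groth.Agent.Flat2E.AIC1 (IsAIC)

namespace K147.VR

theorem flat_of_injective {V₀ V : Type u} [CommRing V₀] [IsDomain V₀] [ValuationRing V₀]
    [CommRing V] [IsDomain V] [Algebra V₀ V] (h : Function.Injective (algebraMap V₀ V)) :
    Module.Flat V₀ V := by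
  rw [Module.Flat.flat_iff_torsion_eq_bot_of_isBezout, ← Submodule.isTorsionFree_iff_torsion_eq_bot]
  have : FaithfulSMul V₀ V := (faithfulSMul_iff_algebraMap_injective V₀ V).mpr h
  infer_instance

theorem tmul_one_mem_nonZeroDivisors {V₀ V V₁ : Type u} [CommRing V₀] [CommRing V] [IsDomain V]
    [CommRing V₁] [Algebra V₀ V] [Algebra V₀ V₁] [Module.Flat V₀ V₁] {v : V} (hv : v ≠ 0) :
    (v ⊗ₜ[V₀] (1 : V₁)) ∈ nonZeroDivisors (V ⊗[V₀] V₁) := by
  rw [mem_nonZeroDivisors_iff_right]
  intro x hx
  have hinj : Function.Injective (LinearMap.mulLeft V₀ v) := fun a b hab => mul_left_cancel₀ hv hab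
  have h1 := Module.Flat.rTensor_preserves_injective_linearMap (M := V₁) _ hinj
  have h2 : ∀ x : V ⊗[V₀] V₁, LinearMap.rTensor V₁ (LinearMap.mulLeft V₀ v) x =
      x * v ⊗ₜ[V₀] (1 : V₁) := by
    intro x
    induction x using TensorProduct.induction_on with
    | zero => simp
    | tmul a b => simp [mul_comm]
    | add a b ha hb => rw [map_add, ha, hb, add_mul]
  exact h1 (by rw [h2, hx, map_zero])

theorem one_tmul_mem_nonZeroDivisors {V₀ V V₁ : Type u} [CommRing V₀] [CommRing V]
    [CommRing V₁] [IsDomain V₁] [Algebra V₀ V] [Algebra V₀ V₁] [Module.Flat V₀ V] {v : V₁}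
    (hv : v ≠ 0) : ((1 : V) ⊗ₜ[V₀] v) ∈ nonZeroDivisors (V ⊗[V₀] V₁) := by
  rw [mem_nonZeroDivisors_iff_right]
  intro x hx
  have hinj : Function.Injective (LinearMap.mulLeft V₀ v) := fun a b hab => mul_left_cancel₀ hv hab
  have h1 := Module.Flat.lTensor_preserves_injective_linearMap (M := V) _ hinj
  have h2 : ∀ x : V ⊗[V₀] V₁, LinearMap.lTensor V (LinearMap.mulLeft V₀ v) x =
      x * (1 : V) ⊗ₜ[V₀] v := by
    intro x
    induction x using TensorProduct.induction_on with
    | zero => simp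
    | tmul a b => simp [mul_comm]
    | add a b ha hb => rw [map_add, ha, hb, add_mul]
  exact h1 (by rw [h2, hx, map_zero])

theorem tmul_one_eq {R A B : Type u} [CommRing R] [CommRing A] [CommRing B] [Algebra R A]
    [Algebra R B] (x : R) :
    (algebraMap R A x) ⊗ₜ[R] (1 : B) = (1 : A) ⊗ₜ[R] (algebraMap R B x) := by
  rw [Algebra.algebraMap_eq_smul_one, Algebra.algebraMap_eq_smul_one, TensorProduct.smul_tmul]

/-- two local maps out of a local ring become equal over a common field extension of the residue fields -/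
theorem exists_field {V₀ V V₁ : Type u} [CommRing V₀] [IsLocalRing V₀] [CommRing V] [IsLocalRing V]
    [CommRing V₁] [IsLocalRing V₁] (i : V₀ →+* V) (j : V₀ →+* V₁) [IsLocalHom i] [IsLocalHom j] :
    ∃ (F : Type u) (_ : Field F) (f : V →+* F) (f₁ : V₁ →+* F), f.comp i = f₁.comp j ∧
      RingHom.ker f = maximalIdeal V ∧ RingHom.ker f₁ = maximalIdeal V₁ := by
  letI : Algebra (ResidueField V₀) (ResidueField V) := (ResidueField.map i).toAlgebra
  letI : Algebra (ResidueField V₀) (ResidueField V₁) := (ResidueField.map j).toAlgebra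
  let N := ResidueField V ⊗[ResidueField V₀] ResidueField V₁
  have : Nontrivial N := Algebra.TensorProduct.nontrivial_of_algebraMap_injective_of_flat_left _ _ _
    (algebraMap (ResidueField V₀) (ResidueField V₁)).injective
  obtain ⟨M, hM⟩ := Ideal.exists_maximal N
  letI : Field (N ⧸ M) := Ideal.Quotient.field M
  let g : ResidueField V →+* N ⧸ M := (Ideal.Quotient.mk M).comp
    (Algebra.TensorProduct.includeLeft (R := ResidueField V₀) (S := ResidueField V₀) :
      ResidueField V →ₐ[ResidueField V₀] N)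
  let g₁ : ResidueField V₁ →+* N ⧸ M := (Ideal.Quotient.mk M).comp
    (Algebra.TensorProduct.includeRight : ResidueField V₁ →ₐ[ResidueField V₀] N)
  refine ⟨N ⧸ M, inferInstance, g.comp (residue V), g₁.comp (residue V₁), ?_, ?_, ?_⟩
  · ext x
    simp only [RingHom.comp_apply]
    have h1 : residue V (i x) = algebraMap (ResidueField V₀) (ResidueField V) (residue V₀ x) :=
      (ResidueField.map_residue i x).symm
    have h2 : residue V₁ (j x) = algebraMap (ResidueField V₀) (ResidueField V₁) (residue V₀ x) :=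
      (ResidueField.map_residue j x).symm
    rw [h1, h2]
    exact congrArg (Ideal.Quotient.mk M) (tmul_one_eq (residue V₀ x))
  · rw [← RingHom.comap_ker, (RingHom.injective_iff_ker_eq_bot _).mp g.injective,
      ← RingHom.ker_eq_comap_bot, ker_residue]
  · rw [← RingHom.comap_ker, (RingHom.injective_iff_ker_eq_bot _).mp g₁.injective,
      ← RingHom.ker_eq_comap_bot, ker_residue]

/-- **Common extension** of two extensions of a valuation ring by an absolutely integrally closed one. -/
theorem exists_common {V₀ V V₁ : Type u} [CommRing V₀] [IsDomain V₀] [ValuationRing V₀]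
    [CommRing V] [IsDomain V] [ValuationRing V] [CommRing V₁] [IsDomain V₁] [ValuationRing V₁]
    (i : V₀ →+* V) (j : V₀ →+* V₁) (hi : Function.Injective i) (hj : Function.Injective j)
    [IsLocalHom i] [IsLocalHom j] :
    ∃ (V' : Type u) (_ : CommRing V') (_ : IsDomain V') (_ : ValuationRing V')
      (a : V →+* V') (b : V₁ →+* V'), IsAIC V' ∧ Function.Injective a ∧ IsLocalHom a ∧
        Function.Injective b ∧ IsLocalHom b ∧ a.comp i = b.comp j := by
  obtain ⟨F, _, f, f₁, hff, hf, hf₁⟩ := exists_field i j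
  letI : Algebra V₀ V := i.toAlgebra
  letI : Algebra V₀ V₁ := j.toAlgebra
  letI : Algebra V₀ F := (f.comp i).toAlgebra
  let P := V ⊗[V₀] V₁
  have : Module.Flat V₀ V := flat_of_injective hi
  have : Module.Flat V₀ V₁ := flat_of_injective hj
  let fa : V →ₐ[V₀] F := { f with commutes' := fun _ => rfl }
  let fb : V₁ →ₐ[V₀] F := { f₁ with commutes' := fun x => (RingHom.congr_fun hff x).symm }
  let π : P →ₐ[V₀] F := Algebra.TensorProduct.lift fa fb (fun _ _ => Commute.all _ _)
  let m : Ideal P := RingHom.ker (π : P →+* F)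
  have hm : m.IsPrime := RingHom.ker_isPrime _
  have hm1 : ∀ v : V, v ⊗ₜ[V₀] (1 : V₁) ∈ m ↔ v ∈ maximalIdeal V := by
    intro v
    rw [← hf]
    show π (v ⊗ₜ[V₀] (1 : V₁)) = 0 ↔ f v = 0
    rw [Algebra.TensorProduct.lift_tmul, map_one, mul_one]
    rfl
  have hm2 : ∀ v : V₁, (1 : V) ⊗ₜ[V₀] v ∈ m ↔ v ∈ maximalIdeal V₁ := by
    intro v
    rw [← hf₁]
    show π ((1 : V) ⊗ₜ[V₀] v) = 0 ↔ f₁ v = 0
    rw [Algebra.TensorProduct.lift_tmul, map_one, one_mul]
    rfl
  obtain ⟨q, hq, hqm⟩ := Ideal.exists_minimalPrimes_le (I := (⊥ : Ideal P)) (J := m) bot_le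
  have hqp : q.IsPrime := hq.1.1
  let L := AlgebraicClosure q.ResidueField
  let ρ : P →+* L := (algebraMap q.ResidueField L).comp (algebraMap P q.ResidueField)
  have hρ : RingHom.ker ρ = q := ker_pt (C := P) ⟨q, hqp⟩
  obtain ⟨V', hV', hunit⟩ := exists_dom ρ m (by rw [hρ]; exact hqm)
  let c : P →+* V' := ρ.codRestrict V' hV'
  have hc : ∀ x, c x = 0 ↔ x ∈ q := fun x => by
    have h1 : x ∈ RingHom.ker ρ ↔ x ∈ q := by rw [hρ]
    rw [← h1, RingHom.mem_ker]
    exact ⟨fun h => congrArg Subtype.val h, fun h => Subtype.ext h⟩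
  let a : V →+* V' := c.comp
    (Algebra.TensorProduct.includeLeft (R := V₀) (S := V₀) : V →ₐ[V₀] P)
  let b : V₁ →+* V' := c.comp (Algebra.TensorProduct.includeRight : V₁ →ₐ[V₀] P)
  refine ⟨V', inferInstance, inferInstance, inferInstance, a, b, isAIC_valuationSubring V',
    ?_, ?_, ?_, ?_, ?_⟩
  · rw [injective_iff_map_eq_zero]
    intro v hv
    by_contra h0
    exact notMem_nonZeroDivisors_of_mem_mem_minimalPrimes ((hc _).mp hv) hq
      (tmul_one_mem_nonZeroDivisors h0)
  · refine ⟨fun v hv => ?_⟩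
    have h1 : v ⊗ₜ[V₀] (1 : V₁) ∉ m := (hunit _).mp hv
    rw [hm1] at h1
    rwa [mem_maximalIdeal, mem_nonunits_iff, not_not] at h1
  · rw [injective_iff_map_eq_zero]
    intro v hv
    by_contra h0
    exact notMem_nonZeroDivisors_of_mem_mem_minimalPrimes ((hc _).mp hv) hq
      (one_tmul_mem_nonZeroDivisors h0)
  · refine ⟨fun v hv => ?_⟩
    have h1 : (1 : V) ⊗ₜ[V₀] v ∉ m := (hunit _).mp hv
    rw [hm2] at h1
    rwa [mem_maximalIdeal, mem_nonunits_iff, not_not] at h1
  · ext x
    exact congrArg ρ (tmul_one_eq x)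

/-- every valuation ring has an absolutely integrally closed extension -/
theorem exists_aic_ext (V : Type u) [CommRing V] [IsDomain V] [ValuationRing V] :
    ∃ (V' : Type u) (_ : CommRing V') (_ : IsDomain V') (_ : ValuationRing V') (a : V →+* V'),
      IsAIC V' ∧ Function.Injective a ∧ IsLocalHom a := by
  obtain ⟨V', h1, h2, h3, a, _, h4, h5, h6, _⟩ := exists_common (RingHom.id V) (RingHom.id V)
    (fun _ _ h => h) (fun _ _ h => h)
  exact ⟨V', h1, h2, h3, a, h4, h5, h6⟩

end K147.VR
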