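import Groth.Agent.EtDual.K147.Aic
import Mathlib.RingTheory.AdicCompletion.Completeness

/-!
# Completions of absolutely integrally closed valuation rings
-/

set_option autoImplicit false

open Polynomial IsLocalRing

namespace K147.VR

variable {V W : Type*} [CommRing V] [CommRing W]

/-- `c : V →+* W` is a `w`-adic completion (elementwise form): isomorphism modulo all `w ^ n`, and `W` is
separated and complete for the `c w`-adic topology. -/
structure IsWCompl (w : V) (c : V →+* W) : Prop where
  surj : ∀ (n : ℕ) (x : W), ∃ y : V, (c w) ^ n ∣ x - c y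
  inj : ∀ (n : ℕ) (y : V), (c w) ^ n ∣ c y → w ^ n ∣ y
  haus : ∀ x : W, (∀ n : ℕ, (c w) ^ n ∣ x) → x = 0
  compl : ∀ s : ℕ → W, (∀ n, (c w) ^ n ∣ s (n + 1) - s n) → ∃ x, ∀ n, (c w) ^ n ∣ x - s n

theorem isWCompl_of_isAdicComplete (w : V) (c : V →+* W) [IsAdicComplete (Ideal.span {c w}) W]
    (surj : ∀ (n : ℕ) (x : W), ∃ y : V, (c w) ^ n ∣ x - c y)
    (inj : ∀ (n : ℕ) (y : V), (c w) ^ n ∣ c y → w ^ n ∣ y) : IsWCompl w c where
  surj := surj
  inj := inj
  haus := fun x hx => by
    refine IsHausdorff.haus (I := Ideal.span {c w}) inferInstance x fun n => ?_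
    rw [SModEq.sub_mem, sub_zero, smul_eq_mul, Ideal.mul_top, Ideal.span_singleton_pow,
      Ideal.mem_span_singleton]
    exact hx n
  compl := fun s hs => by
    have hs' : ∀ {m n}, m ≤ n → s m ≡ s n [SMOD (Ideal.span {c w} ^ m • ⊤ : Ideal W)] := by
      intro m n hmn
      rw [SModEq.sub_mem, smul_eq_mul, Ideal.mul_top, Ideal.span_singleton_pow,
        Ideal.mem_span_singleton]
      induction n, hmn using Nat.le_induction with
      | base => simp
      | succ n hmn ih =>
        have h2 : s m - s (n + 1) = (s m - s n) - (s (n + 1) - s n) := by ring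
        rw [h2]
        exact dvd_sub ih ((pow_dvd_pow _ hmn).trans (hs n))
    obtain ⟨x, hx⟩ := IsPrecomplete.prec (I := Ideal.span {c w}) inferInstance hs'
    refine ⟨x, fun n => ?_⟩
    have h3 := hx n
    rw [SModEq.sub_mem, smul_eq_mul, Ideal.mul_top, Ideal.span_singleton_pow,
      Ideal.mem_span_singleton] at h3
    rw [← neg_sub]
    exact h3.neg_right

theorem IsWCompl.isAdicComplete {w : V} {c : V →+* W} (h : IsWCompl w c) :
    IsAdicComplete (Ideal.span {c w}) W where
  haus' := fun x hx => h.haus x fun n => by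
    have h3 := hx n
    rwa [SModEq.sub_mem, sub_zero, smul_eq_mul, Ideal.mul_top, Ideal.span_singleton_pow,
      Ideal.mem_span_singleton] at h3
  prec' := fun s hs => by
    obtain ⟨x, hx⟩ := h.compl s fun n => by
      have h3 := hs (Nat.le_succ n)
      rw [SModEq.sub_mem, smul_eq_mul, Ideal.mul_top, Ideal.span_singleton_pow,
        Ideal.mem_span_singleton] at h3
      rw [← neg_sub]
      exact h3.neg_right
    refine ⟨x, fun n => ?_⟩
    rw [SModEq.sub_mem, smul_eq_mul, Ideal.mul_top, Ideal.span_singleton_pow,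
        Ideal.mem_span_singleton, ← neg_sub]
    exact (hx n).neg_right

/-- the `w`-adic completion exists -/
theorem isWCompl_adicCompletion (w : V) :
    IsWCompl w (algebraMap V (AdicCompletion (Ideal.span {w}) V)) := by
  set I : Ideal V := Ideal.span {w} with hI
  have hfg : I.FG := ⟨{w}, by simp [hI]⟩
  have hmap : I.map (algebraMap V (AdicCompletion I V)) =
      Ideal.span {algebraMap V (AdicCompletion I V) w} := by
    rw [hI, Ideal.map_span, Set.image_singleton]
  have h2 : ∀ (n : ℕ) (x : AdicCompletion I V),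
      x ∈ (I ^ n • ⊤ : Submodule V (AdicCompletion I V)) ↔
        (algebraMap V (AdicCompletion I V) w) ^ n ∣ x := by
    intro n x
    rw [← Ideal.mem_span_singleton, ← Ideal.span_singleton_pow, ← hmap, ← Ideal.map_pow]
    have h3 := Ideal.smul_top_eq_map (S := AdicCompletion I V) (I ^ n)
    constructor
    · intro h
      rw [h3] at h
      exact h
    · intro h
      rw [h3]
      exact h
  have key : ∀ (n : ℕ) (x : AdicCompletion I V),
      (algebraMap V (AdicCompletion I V) w) ^ n ∣ x ↔ AdicCompletion.evalₐ I n x = 0 := by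
    intro n x
    have h1 : x ∈ (I ^ n • ⊤ : Submodule V (AdicCompletion I V)) ↔
        AdicCompletion.eval I V n x = 0 := by
      rw [AdicCompletion.pow_smul_top_eq_ker_eval hfg, LinearMap.mem_ker]
    have hle : (I ^ n • ⊤ : Ideal V) = I ^ n := by ext x; simp
    rw [← h2, h1]
    have h4 : AdicCompletion.evalₐ I n x =
        Ideal.quotientEquivAlgOfEq V hle (AdicCompletion.eval I V n x) := rfl
    rw [h4]
    exact (map_eq_zero_iff _ (Ideal.quotientEquivAlgOfEq V hle).injective).symm
  have hc := AdicCompletion.isAdicComplete (M := V) hfg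
  refine ⟨?_, ?_, ?_, ?_⟩
  · intro n x
    obtain ⟨y, hy⟩ := Ideal.Quotient.mk_surjective (AdicCompletion.evalₐ I n x)
    refine ⟨y, ?_⟩
    rw [key, map_sub, ← hy, AlgHom.commutes, sub_eq_zero]
    rfl
  · intro n y hy
    rw [key, AlgHom.commutes] at hy
    rw [← Ideal.mem_span_singleton, ← Ideal.span_singleton_pow, ← hI]
    exact Ideal.Quotient.eq_zero_iff_mem.mp hy
  · intro x hx
    exact AdicCompletion.ext_evalₐ fun n => by rw [(key n x).mp (hx n), map_zero]
  · intro s hs
    have hs' : ∀ {m n}, m ≤ n →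
        s m ≡ s n [SMOD (I ^ m • ⊤ : Submodule V (AdicCompletion I V))] := by
      intro m n hmn
      rw [SModEq.sub_mem, h2]
      induction n, hmn using Nat.le_induction with
      | base => simp
      | succ n hmn ih =>
        have h2 : s m - s (n + 1) = (s m - s n) - (s (n + 1) - s n) := by ring
        rw [h2]
        exact dvd_sub ih ((pow_dvd_pow _ hmn).trans (hs n))
    obtain ⟨x, hx⟩ := IsPrecomplete.prec hc.toIsPrecomplete hs'
    refine ⟨x, fun n => ?_⟩
    have h3 := hx n
    rw [SModEq.sub_mem, h2] at h3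
    rw [← neg_sub]
    exact h3.neg_right

end K147.VR
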