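import Groth.Agent.EtDual.K147.Compl

/-!
# The `w`-adic completion of an absolutely integrally closed valuation ring is of the same kind
-/

set_option autoImplicit false

open Polynomial IsLocalRing
open Groth.Agent.Flat2E.AIC1 (IsAIC)

namespace K147.VR

variable {V W : Type*} [CommRing V] [CommRing W]

section Val

variable [IsDomain V] [ValuationRing V]

theorem dvd_or_exists_nonunit (a b : V) : a ∣ b ∨ ∃ t, ¬ IsUnit t ∧ a = b * t := by
  rcases ValuationRing.dvd_total a b with h | ⟨t, ht⟩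
  · exact Or.inl h
  · by_cases hu : IsUnit t
    · obtain ⟨s, hs⟩ := hu.exists_right_inv
      exact Or.inl ⟨s, by rw [ht, mul_assoc, hs, mul_one]⟩
    · exact Or.inr ⟨t, hu, ht⟩

theorem eq_zero_of_eq_mul_nonunit {a t : V} (ht : ¬ IsUnit t) (r : V) (h : a = a * (r * t)) :
    a = 0 := by
  have h1 : a * (1 - r * t) = 0 := by rw [mul_sub, mul_one, ← h, sub_self]
  have h2 : IsUnit (1 - r * t) := by
    refine (IsLocalRing.isUnit_or_isUnit_of_add_one (a := r * t) (b := 1 - r * t)
      (by ring)).resolve_left fun h3 => ht (isUnit_of_mul_isUnit_right h3)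
  exact (mul_eq_zero.mp h1).resolve_right h2.ne_zero

theorem pigeon {w : V} {n : ℕ} (hn : n ≠ 0) (j : ℕ) (a : Fin n → V)
    (h : w ^ (n * j) ∣ ∏ i, a i) : ∃ i, w ^ j ∣ a i := by
  by_contra hcon
  push Not at hcon
  have h1 : ∀ i, ∃ t, ¬ IsUnit t ∧ w ^ j = a i * t := fun i =>
    (dvd_or_exists_nonunit (w ^ j) (a i)).resolve_left (hcon i)
  choose t ht hwt using h1
  obtain ⟨r, hr⟩ := h
  have h2 : w ^ (n * j) = (∏ i, a i) * ∏ i, t i := by
    rw [← Finset.prod_mul_distrib, ← Finset.prod_congr rfl (fun i _ => hwt i), Finset.prod_const,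
      Finset.card_univ, Fintype.card_fin, ← pow_mul, mul_comm]
  have h3 : ¬ IsUnit (∏ i, t i) := by
    intro hu
    have : NeZero n := ⟨hn⟩
    exact ht 0 (isUnit_of_dvd_unit (Finset.dvd_prod_of_mem t (Finset.mem_univ 0)) hu)
  have h4 : w ^ (n * j) = 0 := eq_zero_of_eq_mul_nonunit h3 r (by
    conv_lhs => rw [h2, hr]
    ring)
  rw [h4, zero_mul, Finset.prod_eq_zero_iff] at hr
  obtain ⟨i, -, hi⟩ := hr
  exact hcon i (by rw [hi]; exact dvd_zero _)

end Val

namespace IsWCompl

variable {w : V} {c : V →+* W} (h : IsWCompl w c)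
include h

theorem nontrivial (hw : ¬ IsUnit w) : Nontrivial W := by
  by_contra hn
  rw [not_nontrivial_iff_subsingleton] at hn
  have h1 : w ^ 1 ∣ (1 : V) := h.inj 1 1 ⟨0, Subsingleton.elim _ _⟩
  rw [pow_one] at h1
  exact hw (isUnit_of_dvd_one h1)

theorem map_eq_zero_iff {y : V} : c y = 0 ↔ ∀ n : ℕ, w ^ n ∣ y := by
  constructor
  · intro hy n
    exact h.inj n y (by rw [hy]; exact dvd_zero _)
  · intro hy
    refine h.haus _ fun n => ?_
    obtain ⟨z, hz⟩ := hy n
    exact ⟨c z, by rw [hz, map_mul, map_pow]⟩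

theorem isUnit_one_add (z : W) : IsUnit (1 + c w * z) := by
  set r : W := -(c w * z) with hr
  obtain ⟨x, hx⟩ := h.compl (fun n => ∑ i ∈ Finset.range n, r ^ i) (fun n => by
    rw [Finset.sum_range_succ, add_sub_cancel_left, hr, neg_pow, mul_pow]
    exact (dvd_mul_right _ _).mul_left _)
  have h1 : (1 - r) * x = 1 := by
    rw [← sub_eq_zero]
    refine h.haus _ fun n => ?_
    have h2 : (1 - r) * x - 1 =
        (1 - r) * (x - ∑ i ∈ Finset.range n, r ^ i) - r ^ n := by
      rw [mul_sub, mul_neg_geom_sum]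
      ring
    rw [h2]
    refine dvd_sub ((hx n).mul_left _) ?_
    rw [hr, neg_pow, mul_pow]
    exact (dvd_mul_right _ _).mul_left _
  have h3 : 1 + c w * z = 1 - r := by rw [hr]; ring
  rw [h3]
  exact IsUnit.of_mul_eq_one _ h1

theorem isUnit_of_isUnit_sub {x : W} {y : V} (hy : IsUnit y) (hxy : c w ∣ x - c y) :
    IsUnit x := by
  obtain ⟨z, hz⟩ := hxy
  obtain ⟨s, hs⟩ := hy.exists_right_inv
  have h1 : x = c y * (1 + c w * (c s * z)) := by
    have : c y * c s = 1 := by rw [← map_mul, hs, map_one]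
    linear_combination hz - c w * z * this
  rw [h1]
  exact (hy.map c).mul (h.isUnit_one_add _)

theorem isUnit_of_mul (hloc : IsLocalRing V) {t : V} (ht : ¬ IsUnit t) (z : W) :
    IsUnit (1 + c t * z) := by
  obtain ⟨y, hy⟩ := h.surj 1 z
  rw [pow_one] at hy
  refine h.isUnit_of_isUnit_sub (y := 1 + t * y) ?_ ?_
  · refine (IsLocalRing.isUnit_or_isUnit_of_add_one (a := -(t * y)) (b := 1 + t * y)
      (by ring)).resolve_left fun h3 => ht ?_
    rw [IsUnit.neg_iff] at h3
    exact isUnit_of_mul_isUnit_left h3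
  · obtain ⟨v, hv⟩ := hy
    exact ⟨c t * v, by rw [map_add, map_one, map_mul]; linear_combination c t * hv⟩

theorem isLocalHom (hloc : IsLocalRing V) (hw : ¬ IsUnit w) : IsLocalHom c := by
  have := h.nontrivial hw
  refine ⟨fun a ha => ?_⟩
  by_contra hna
  obtain ⟨z, hz⟩ := ha.exists_right_inv
  have h1 := h.isUnit_of_mul hloc hna (-z)
  rw [mul_neg, hz, add_neg_cancel] at h1
  exact not_isUnit_zero h1

variable [IsDomain V] [ValuationRing V]

theorem exists_mul_unit {x : W} {n : ℕ} (hx : ¬ (c w) ^ n ∣ x) :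
    ∃ (y : V) (u : W), IsUnit u ∧ x = c y * u ∧ ¬ w ^ n ∣ y := by
  obtain ⟨y, z, hz⟩ := h.surj n x
  have hy : ¬ w ^ n ∣ y := by
    rintro ⟨s, hs⟩
    refine hx ⟨z + c s, ?_⟩
    rw [sub_eq_iff_eq_add] at hz
    rw [hz, hs, map_mul, map_pow]
    ring
  obtain ⟨t, ht, hwt⟩ := (dvd_or_exists_nonunit (w ^ n) y).resolve_left hy
  refine ⟨y, 1 + c t * z, h.isUnit_of_mul inferInstance ht z, ?_, hy⟩
  have : (c w) ^ n = c y * c t := by rw [← map_pow, hwt, map_mul]
  linear_combination hz + z * this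

theorem isDomain (hw : ¬ IsUnit w) : IsDomain W := by
  have := h.nontrivial hw
  have : NoZeroDivisors W := by
    refine ⟨fun {x y} hxy => ?_⟩
    by_contra hcon
    push Not at hcon
    obtain ⟨n, hn⟩ : ∃ n, ¬ (c w) ^ n ∣ x := by
      by_contra h1; push Not at h1; exact hcon.1 (h.haus x h1)
    obtain ⟨m, hm⟩ : ∃ n, ¬ (c w) ^ n ∣ y := by
      by_contra h1; push Not at h1; exact hcon.2 (h.haus y h1)
    obtain ⟨a, u, hu, hxa, hwa⟩ := h.exists_mul_unit hn
    obtain ⟨b, v, hv, hyb, hwb⟩ := h.exists_mul_unit hm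
    have h1 : c (a * b) = 0 := by
      have : c (a * b) * (u * v) = 0 := by rw [map_mul, ← hxy, hxa, hyb]; ring
      exact (hu.mul hv).mul_left_eq_zero.mp this
    obtain ⟨t, ht, hwt⟩ := (dvd_or_exists_nonunit (w ^ n) a).resolve_left hwa
    obtain ⟨s, -, hws⟩ := (dvd_or_exists_nonunit (w ^ m) b).resolve_left hwb
    obtain ⟨r, hr⟩ := h.map_eq_zero_iff.mp h1 (n + m)
    have h2 : w ^ (n + m) = 0 := eq_zero_of_eq_mul_nonunit ht (r * s) (by
      conv_lhs => rw [pow_add, hwt, hws]
      calc a * t * (b * s) = (a * b) * (t * s) := by ring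
        _ = _ := by rw [hr]; ring)
    rw [h2, zero_mul] at hr
    rcases mul_eq_zero.mp hr with h3 | h3
    · exact hwa (by rw [h3]; exact dvd_zero _)
    · exact hwb (by rw [h3]; exact dvd_zero _)
  exact NoZeroDivisors.to_isDomain W

theorem dvd_total (x y : W) : x ∣ y ∨ y ∣ x := by
  by_cases hx : x = 0
  · exact Or.inr (by rw [hx]; exact dvd_zero _)
  by_cases hy : y = 0
  · exact Or.inl (by rw [hy]; exact dvd_zero _)
  obtain ⟨n, hn⟩ : ∃ n, ¬ (c w) ^ n ∣ x := by
    by_contra h1; push Not at h1; exact hx (h.haus x h1)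
  obtain ⟨m, hm⟩ : ∃ n, ¬ (c w) ^ n ∣ y := by
    by_contra h1; push Not at h1; exact hy (h.haus y h1)
  obtain ⟨a, u, hu, hxa, -⟩ := h.exists_mul_unit hn
  obtain ⟨b, v, hv, hyb, -⟩ := h.exists_mul_unit hm
  rcases ValuationRing.dvd_total a b with hab | hab
  · left
    rw [hxa, hyb]
    exact (hu.mul_right_dvd.mpr (map_dvd c hab)).mul_right v
  · right
    rw [hxa, hyb]
    exact (hv.mul_right_dvd.mpr (map_dvd c hab)).mul_right u

theorem valuationRing [IsDomain W] : ValuationRing W :=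
  ValuationRing.iff_dvd_total.mpr ⟨h.dvd_total⟩

theorem isAIC (hw : ¬ IsUnit w) (ha : IsAIC V) : IsAIC W := by
  have := h.isDomain hw
  intro F hF hd
  set n := F.natDegree with hn
  have hnpos : 0 < n := Nat.pos_of_ne_zero hd
  have step : ∀ (j : ℕ) (α : V), (c w) ^ (n * j) ∣ F.eval (c α) →
      ∃ β, (c w) ^ (n * (j + 1)) ∣ F.eval (c β) ∧ w ^ j ∣ β - α := by
    intro j α hα
    set N := n * (j + 1) with hN
    have hNpos : N ≠ 0 := by positivity
    let mk := Ideal.Quotient.mk (Ideal.span {(c w) ^ N})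
    have hmk : ∀ x y : W, mk x = mk y ↔ (c w) ^ N ∣ x - y := fun x y => by
      rw [Ideal.Quotient.eq, Ideal.mem_span_singleton]
    have : Nontrivial (W ⧸ Ideal.span {(c w) ^ N}) := by
      rw [Ideal.Quotient.nontrivial_iff, Ne, Ideal.eq_top_iff_one, Ideal.mem_span_singleton]
      intro h1
      rw [← map_one c] at h1
      exact hw ((isUnit_pow_iff hNpos).mp (isUnit_of_dvd_one (h.inj N 1 h1)))
    have hsurj : Function.Surjective (mk.comp c) := by
      intro x
      obtain ⟨x, rfl⟩ := Ideal.Quotient.mk_surjective x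
      obtain ⟨y, hy⟩ := h.surj N x
      exact ⟨y, ((hmk _ _).mpr hy).symm⟩
    have hFm : (F.map mk).Monic := hF.map mk
    obtain ⟨G, hG, hGd, hGm⟩ := lifts_and_natDegree_eq_and_monic (f := mk.comp c) (p := F.map mk)
      (by rw [lifts_iff_coeff_lifts]; intro i; exact hsurj _) hFm
    rw [hF.natDegree_map] at hGd
    have hev : ∀ x : W, (c w) ^ N ∣ F.eval x - (G.map c).eval x := by
      intro x
      rw [← hmk, ← eval_map_apply, ← eval_map_apply, Polynomial.map_map, hG]
    obtain ⟨s, hs⟩ := exists_prod ha n G hGm hGd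
    have hGα : w ^ (n * j) ∣ ∏ i, (α - s i) := by
      have h1 : G.eval α = ∏ i, (α - s i) := by
        rw [hs, eval_prod]
        simp
      rw [← h1]
      refine h.inj _ _ ?_
      have h2 := hev (c α)
      rw [eval_map_apply] at h2
      have h3 : c (G.eval α) = F.eval (c α) - (F.eval (c α) - c (G.eval α)) := by ring
      rw [h3]
      exact dvd_sub hα ((pow_dvd_pow _ (by rw [hN]; gcongr; omega)).trans h2)
    obtain ⟨i, hi⟩ := pigeon hd j _ hGα
    refine ⟨s i, ?_, ?_⟩
    · have h2 := hev (c (s i))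
      have h1 : G.eval (s i) = 0 := by
        rw [hs, eval_prod]
        exact Finset.prod_eq_zero (Finset.mem_univ i) (by simp)
      rwa [eval_map_apply, h1, map_zero, sub_zero] at h2
    · rw [← neg_sub]
      exact hi.neg_right
  choose! β hβ1 hβ2 using step
  let α : ℕ → V := fun j => Nat.rec 0 (fun j a => β j a) j
  have hα : ∀ j, (c w) ^ (n * j) ∣ F.eval (c (α j)) := by
    intro j
    induction j with
    | zero => simp
    | succ j ih => exact hβ1 j _ ih
  obtain ⟨x, hx⟩ := h.compl (fun j => c (α j)) (fun j => by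
    show (c w) ^ j ∣ c (β j (α j)) - c (α j)
    rw [← map_sub, ← map_pow]
    exact map_dvd c (hβ2 j _ (hα j)))
  refine ⟨x, h.haus _ fun j => ?_⟩
  have h1 : F.eval x = (F.eval x - F.eval (c (α j))) + F.eval (c (α j)) := by ring
  rw [h1]
  refine dvd_add ((hx j).trans (sub_dvd_eval_sub _ _ _)) ((pow_dvd_pow _ ?_).trans (hα j))
  exact Nat.le_mul_of_pos_left j hnpos

end IsWCompl

end K147.VR
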