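import Groth.Agent.EtDual.K147.Common
import Groth.Agent.EtDual.K617.TauCov

/-!
# Coverings by products of absolutely integrally closed valuation rings (seat 147)

* `vcov_toT`, `exists_prod_vcov` (E1): every ring `C` has a `VCov` map to a product of a.i.c. valuation rings;
* `exists_prod_tauCov` (E2): for `w : C` there is a `TauCov w` map to a product of `V i` with `IsAicc (V i) w`;
* `exists_common_aicc` (E3): complete common extensions;
* `isAdicComplete_pi`: a product of `w`-complete rings is `w`-complete.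
-/

set_option autoImplicit false

universe u v

open IsLocalRing
open Groth.Agent.Flat2E.AIC1 (IsAIC)
open K617.VC K617.Aic

namespace K147.VR

theorem curves_isAIC {B : Type u} [CommRing B] (h : IsAIC B) : Curves.IsAIC B :=
  fun f hf hd => h f hf hd.ne'

theorem isAIC_of_curves {B : Type u} [CommRing B] (h : Curves.IsAIC B) : IsAIC B :=
  fun f hf hd => h f hf (Nat.pos_of_ne_zero hd)

section E1

variable (C : Type u) [CommRing C]

/-- the map to the product of all a.i.c. valuation rings over the residue fields -/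
noncomputable def toT : C →+* ∀ i : Idx C, i.Val := RingHom.pi fun i => i.str

theorem toT_apply (c : C) (i : Idx C) : toT C c i = i.str c := rfl

/-- **(E1)** -/
theorem vcov_toT : VCov (toT C) := by
  intro V _ _ _ ψ
  obtain ⟨i, V', _, _, _, a, b, _, ha, hal, _, _, h⟩ := exists_idx ψ
  refine ⟨V', inferInstance, inferInstance, inferInstance, a, b.comp (Pi.evalRingHom _ i), ha, hal, ?_⟩
  rw [h]
  rfl

theorem exists_prod_vcov : ∃ (I : Type u) (V : I → Type u) (_ : ∀ i, CommRing (V i))
    (_ : ∀ i, IsDomain (V i)) (_ : ∀ i, ValuationRing (V i)) (φ : C →+* ∀ i, V i),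
      (∀ i, Curves.IsAIC (V i)) ∧ VCov φ :=
  ⟨Idx C, fun i => i.Val, inferInstance, inferInstance, inferInstance, toT C,
    fun i => curves_isAIC i.isAIC, vcov_toT C⟩

end E1

section E2

/-- completing one factor -/
theorem exists_compl {V : Type u} [CommRing V] [IsDomain V] [ValuationRing V] (h : IsAIC V) (w : V)
    (hw : ¬ IsUnit w) : ∃ (D : Type u) (_ : CommRing D) (c : V →+* D), IsAicc D (c w) ∧ IsCompl w c := by
  obtain ⟨D, _, _, _, c, hc, hD, hcl, -⟩ := exists_isCompl (curves_isAIC h) w hw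
  exact ⟨D, inferInstance, c, ⟨inferInstance, fun a b => ValuationRing.dvd_total a b, hD,
    fun hu => hw (hcl.map_nonunit _ hu), hc.complete⟩, hc⟩

/-- extending a map through a completion -/
theorem exists_lift_aicc {C W V'' D : Type u} [CommRing C] [CommRing W] [CommRing V'']
    [CommRing D] (w : C) (s : C →+* W) (c : W →+* D) (hc : IsCompl (s w) c) (b : W →+* V'')
    (h : IsAicc V'' (b (s w))) : ∃ θ : D →+* V'', θ.comp (c.comp s) = b.comp s := by
  obtain ⟨θ, hθ⟩ := IsCompl.exists_lift hc b h.complete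
  exact ⟨θ, by rw [← RingHom.comp_assoc, hθ]⟩

/-- the family of all a.i.c. valuation rings over the residue fields, with opaque members -/
theorem exists_family (C : Type u) [CommRing C] : ∃ (I : Type u) (V : I → Type u)
    (_ : ∀ i, CommRing (V i)) (_ : ∀ i, IsDomain (V i)) (_ : ∀ i, ValuationRing (V i))
    (s : ∀ i, C →+* V i), (∀ i, IsAIC (V i)) ∧
      ∀ (W : Type u) [CommRing W] [IsDomain W] [ValuationRing W] (ψ : C →+* W),
        ∃ (i : I) (V' : Type u) (_ : CommRing V') (_ : IsDomain V') (_ : ValuationRing V')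
          (a : W →+* V') (b : V i →+* V'), IsAIC V' ∧ Function.Injective a ∧ IsLocalHom a ∧
            Function.Injective b ∧ IsLocalHom b ∧ a.comp ψ = b.comp (s i) :=
  ⟨Idx C, fun i => i.Val, inferInstance, inferInstance, inferInstance, fun i => i.str,
    fun i => i.isAIC, fun _ _ _ _ ψ => exists_idx ψ⟩

theorem extend_aicc {C : Type u} [CommRing C] (w : C) {V : Type u} [CommRing V] (ψ : C →+* V)
    (hV : IsAicc V (ψ w)) {W V' : Type u} [CommRing W] [CommRing V'] [IsDomain V'] [ValuationRing V']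
    (s : C →+* W) (a : V →+* V') (b : W →+* V') (ha : Function.Injective a) (hal : IsLocalHom a)
    (h : a.comp ψ = b.comp s) : ∃ (V'' : Type u) (_ : CommRing V'') (a : V →+* V'')
      (b : W →+* V''), IsAicc V'' (a (ψ w)) ∧ Function.Injective a ∧ IsLocalHom a ∧
        ¬ IsUnit (s w) ∧ a.comp ψ = b.comp s := by
  obtain ⟨_, _⟩ := hV.valuationRing
  obtain ⟨V'', _, j, hV'', hj, hjl⟩ := exists_aicc_hull hV a ha hal
  have hw : b (s w) = a (ψ w) := (RingHom.congr_fun h w).symm
  have hi : ¬ IsUnit (s w) := fun hu => hV.nonunit (hal.map_nonunit _ (hw ▸ hu.map b))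
  exact ⟨V'', inferInstance, j.comp a, j.comp b, hV'', hj, hjl, hi, by
    rw [RingHom.comp_assoc, h, RingHom.comp_assoc]⟩

/-- the general form of (E2), for families -/
theorem tauCov_of_family {C : Type u} [CommRing C] (w : C) {I : Type u} (D : I → Type u)
    [∀ i, CommRing (D i)] (φ : ∀ i, C →+* D i)
    (h : ∀ (V : Type u) [CommRing V] (ψ : C →+* V), IsAicc V (ψ w) →
      ∃ (i : I) (V' : Type u) (_ : CommRing V') (a : V →+* V') (θ : D i →+* V'),
        IsAicc V' (a (ψ w)) ∧ Function.Injective a ∧ IsLocalHom a ∧ a.comp ψ = θ.comp (φ i)) :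
    TauCov w (RingHom.pi φ) := by
  intro V _ ψ hV
  obtain ⟨i, V', _, a, θ, hV', ha, hal, he⟩ := h V ψ hV
  exact ⟨V', inferInstance, a, θ.comp (Pi.evalRingHom D i), hV', ha, hal, he.symm⟩

/-- **(E2)** -/
theorem exists_prod_tauCov (C : Type u) [CommRing C] (w : C) :
    ∃ (I : Type u) (V : I → Type u) (_ : ∀ i, CommRing (V i)) (φ : C →+* ∀ i, V i),
      (∀ i, IsAicc (V i) (φ w i)) ∧ TauCov w φ := by
  obtain ⟨I, V, _, _, _, s, hV, hex⟩ := exists_family C
  have key : ∀ i : {i : I // ¬ IsUnit (s i w)}, ∃ (D : Type u) (_ : CommRing D)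
      (c : V i.1 →+* D), IsAicc D (c (s i.1 w)) ∧ IsCompl (s i.1 w) c := fun i =>
    exists_compl (hV i.1) (s i.1 w) i.2
  choose D hD₀ c hD hc using key
  refine ⟨{i : I // ¬ IsUnit (s i w)}, D, hD₀, RingHom.pi fun i => (c i).comp (s i.1), hD,
    tauCov_of_family w D _ fun W _ ψ hW => ?_⟩
  obtain ⟨_, _⟩ := hW.valuationRing
  obtain ⟨i, V', _, _, _, a, b, _, ha, hal, _, _, h⟩ := hex W ψ
  obtain ⟨V'', hV₂, a, b, hV'', ha, hal, hi, h⟩ := extend_aicc w ψ hW (s i) a b ha hal h
  have hw : b (s i w) = a (ψ w) := (RingHom.congr_fun h w).symm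
  obtain ⟨θ, hθ⟩ := exists_lift_aicc w (s i) (c ⟨i, hi⟩) (hc ⟨i, hi⟩) b (by rw [hw]; exact hV'')
  exact ⟨⟨i, hi⟩, V'', hV₂, a, θ, hV'', ha, hal, h.trans hθ.symm⟩

end E2

section E3

/-- **(E3)** complete common extensions -/
theorem exists_common_aicc {V₀ V V₁ : Type u} [CommRing V₀] [CommRing V] [CommRing V₁] {w : V₀}
    (h₀ : IsAicc V₀ w) (i : V₀ →+* V) (j : V₀ →+* V₁) (h : IsAicc V (i w)) (h₁ : IsAicc V₁ (j w))
    (hi : Function.Injective i) (hj : Function.Injective j) (hil : IsLocalHom i) (hjl : IsLocalHom j) :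
    ∃ (V' : Type u) (_ : CommRing V') (a : V →+* V') (b : V₁ →+* V'), IsAicc V' (a (i w)) ∧
      Function.Injective a ∧ IsLocalHom a ∧ Function.Injective b ∧ IsLocalHom b ∧
        a.comp i = b.comp j := by
  obtain ⟨_, _⟩ := h₀.valuationRing
  obtain ⟨_, _⟩ := h.valuationRing
  obtain ⟨_, _⟩ := h₁.valuationRing
  obtain ⟨V₂, _, _, _, a, b, hV₂, ha, hal, hb, hbl, hab⟩ := exists_common i j hi hj
  have hw : b (j w) = a (i w) := (RingHom.congr_fun hab w).symm
  have hnu : ¬ IsUnit (a (i w)) := fun hu => h.nonunit (hal.map_nonunit _ hu)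
  obtain ⟨D, _, _, _, c, hc, hD, hcl, -⟩ := exists_isCompl (curves_isAIC hV₂) (a (i w)) hnu
  have hsep : ∀ {W : Type u} [CommRing W] {x : W}, IsAicc W x →
      ∀ y : W, (∀ n, x ^ n ∣ y) → y = 0 := by
    intro W _ x hx y hy
    have := hx.complete
    exact IsHausdorff.haus (I := Ideal.span {x}) inferInstance y fun n => by
      rw [smodEq_span_pow_iff, sub_zero]
      exact hy n
  refine ⟨D, inferInstance, c.comp a, c.comp b, ⟨inferInstance,
    fun x y => ValuationRing.dvd_total x y, hD, fun hu => hnu (hcl.map_nonunit _ hu), hc.complete⟩,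
    comp_injective a ha (hsep h) (C := D) (φ := c) hc, inferInstance,
    comp_injective b hb (hsep h₁) (C := D) (φ := c) (by rw [hw]; exact hc), inferInstance, ?_⟩
  rw [RingHom.comp_assoc, hab, RingHom.comp_assoc]

end E3

section Pi

theorem isAdicComplete_pi {I : Type u} {V : I → Type v} [∀ i, CommRing (V i)] (w : ∀ i, V i)
    (h : ∀ i, IsAdicComplete (Ideal.span {w i}) (V i)) :
    IsAdicComplete (Ideal.span {w}) (∀ i, V i) where
  haus' := by
    intro x hx
    funext i
    refine IsHausdorff.haus (I := Ideal.span {w i}) inferInstance (x i) fun n => ?_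
    have h1 := hx n
    rw [smodEq_span_pow_iff, sub_zero] at h1 ⊢
    obtain ⟨c, hc⟩ := h1
    exact ⟨c i, congrFun hc i⟩
  prec' := by
    intro f hf
    have h1 : ∀ i, ∃ L : V i, ∀ n, f n i ≡ L [SMOD (Ideal.span {w i} ^ n • ⊤ : Submodule (V i) (V i))] := by
      intro i
      refine IsPrecomplete.prec (I := Ideal.span {w i}) inferInstance (f := fun n => f n i) ?_
      intro m n hmn
      have h2 := hf hmn
      rw [smodEq_span_pow_iff] at h2 ⊢
      obtain ⟨c, hc⟩ := h2
      exact ⟨c i, congrFun hc i⟩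
    choose L hL using h1
    refine ⟨L, fun n => ?_⟩
    have h3 : ∀ i, w i ^ n ∣ f n i - L i := fun i => by
      have := hL i n
      rwa [smodEq_span_pow_iff] at this
    choose c hc using h3
    rw [smodEq_span_pow_iff]
    exact ⟨c, funext hc⟩

end Pi

end K147.VR
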