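import Groth.Agent.EtDual.K147.Aic
import Mathlib.FieldTheory.IsAlgClosed.AlgebraicClosure
import Mathlib.RingTheory.Flat.Domain
import Mathlib.RingTheory.Ideal.MinimalPrime.Localization

/-!
# Domination by absolutely integrally closed valuation rings, and common extensions
-/

set_option autoImplicit false

universe u v

open IsLocalRing TensorProduct
open Groth.Agent.Flat2E.AIC1 (IsAIC)

namespace K147.VR

/-- a ring map to a field and a prime containing the kernel: there is a valuation subring whose maximal
ideal lies over the prime -/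
theorem exists_dom {A : Type u} [CommRing A] {L : Type v} [Field L] (ρ : A →+* L) (m : Ideal A)
    [m.IsPrime] (hm : RingHom.ker ρ ≤ m) :
    ∃ (V : ValuationSubring L) (hV : ∀ a, ρ a ∈ V),
      ∀ a, IsUnit (ρ.codRestrict V hV a) ↔ a ∉ m := by
  let ρ' : Localization.AtPrime m →+* L := IsLocalization.lift (M := m.primeCompl) (g := ρ)
    (fun a => by
      rw [isUnit_iff_ne_zero]
      intro h
      exact a.2 (hm h))
  have hρ' : ∀ a, ρ' (algebraMap A _ a) = ρ a := fun a => IsLocalization.lift_eq _ a
  obtain ⟨V, hV, hloc⟩ := exists_factor_valuationRing ρ'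
  refine ⟨V, fun a => by rw [← hρ']; exact hV _, fun a => ?_⟩
  have h1 : ρ.codRestrict V (fun a => by rw [← hρ']; exact hV _) a =
      ρ'.codRestrict _ hV (algebraMap A _ a) := Subtype.ext (hρ' a).symm
  rw [h1]
  constructor
  · intro h ha
    have h2 : IsUnit (algebraMap A (Localization.AtPrime m) a) := hloc.map_nonunit _ h
    rw [IsLocalization.AtPrime.isUnit_to_map_iff _ m] at h2
    exact h2 ha
  · intro h
    exact ((IsLocalization.AtPrime.isUnit_to_map_iff (Localization.AtPrime m) m a).mpr h).map _

theorem isAIC_valuationSubring {L : Type v} [Field L] [IsAlgClosed L] (V : ValuationSubring L) :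
    IsAIC V := isAIC_of_isAlgClosed L

/-- the point of the algebraic closure of the residue field -/
noncomputable def pt {C : Type u} [CommRing C] (q : PrimeSpectrum C) :
    C →+* AlgebraicClosure q.asIdeal.ResidueField :=
  (algebraMap q.asIdeal.ResidueField _).comp (algebraMap C q.asIdeal.ResidueField)

theorem ker_pt {C : Type u} [CommRing C] (q : PrimeSpectrum C) : RingHom.ker (pt q) = q.asIdeal := by
  have h1 : RingHom.ker (algebraMap q.asIdeal.ResidueField
      (AlgebraicClosure q.asIdeal.ResidueField)) = ⊥ :=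
    (RingHom.injective_iff_ker_eq_bot _).mp
      (algebraMap q.asIdeal.ResidueField (AlgebraicClosure q.asIdeal.ResidueField)).injective
  rw [pt, ← RingHom.comap_ker, h1, ← RingHom.ker_eq_comap_bot]
  exact Ideal.ker_algebraMap_residueField _

/-- the index set of all a.i.c. valuation rings over `C` which are algebraic over a residue field -/
def Idx (C : Type u) [CommRing C] : Type u :=
  Σ q : PrimeSpectrum C, {V : ValuationSubring (AlgebraicClosure q.asIdeal.ResidueField) //
    ∀ c, pt q c ∈ V}

variable {C : Type u} [CommRing C]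

/-- the valuation ring of an index -/
abbrev Idx.Val (i : Idx C) : Type u := i.2.1

/-- the structure map of an index -/
noncomputable def Idx.str (i : Idx C) : C →+* i.Val := (pt i.1).codRestrict i.2.1 i.2.2

theorem Idx.isAIC (i : Idx C) : IsAIC i.Val := isAIC_valuationSubring _

/-- **Every** map from `C` to a valuation ring is dominated by a member of the family. -/
theorem exists_idx {V : Type u} [CommRing V] [IsDomain V] [ValuationRing V] (ψ : C →+* V) :
    ∃ (i : Idx C) (V' : Type u) (_ : CommRing V') (_ : IsDomain V') (_ : ValuationRing V')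
      (a : V →+* V') (b : i.Val →+* V'), IsAIC V' ∧ Function.Injective a ∧ IsLocalHom a ∧
        Function.Injective b ∧ IsLocalHom b ∧ a.comp ψ = b.comp i.str := by
  let F := AlgebraicClosure (FractionRing V)
  let α : V →+* F := (algebraMap (FractionRing V) F).comp (algebraMap V (FractionRing V))
  have hα : Function.Injective α :=
    (algebraMap (FractionRing V) F).injective.comp (IsFractionRing.injective V (FractionRing V))
  obtain ⟨V', hV', hunit⟩ := exists_dom α (maximalIdeal V)
    (by rw [(RingHom.injective_iff_ker_eq_bot _).mp hα]; exact bot_le)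
  let q : PrimeSpectrum C := ⟨RingHom.ker ψ, RingHom.ker_isPrime ψ⟩
  have : q.asIdeal.IsPrime := q.2
  have hψ : ∀ c, (α.comp ψ) c = 0 ↔ c ∈ q.asIdeal := fun c => by
    rw [RingHom.comp_apply, map_eq_zero_iff _ hα]
    rfl
  let g₀ : C ⧸ q.asIdeal →+* F := Ideal.Quotient.lift _ (α.comp ψ) fun c hc => (hψ c).mpr hc
  have hg₀ : Function.Injective g₀ := by
    rw [injective_iff_map_eq_zero]
    intro x hx
    obtain ⟨c, rfl⟩ := Ideal.Quotient.mk_surjective x
    exact Ideal.Quotient.eq_zero_iff_mem.mpr ((hψ c).mp hx)
  let g : q.asIdeal.ResidueField →+* F := IsFractionRing.lift hg₀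
  have hg : ∀ c, g (algebraMap C _ c) = α (ψ c) := by
    intro c
    have h1 : algebraMap C q.asIdeal.ResidueField c =
        algebraMap (C ⧸ q.asIdeal) _ (Ideal.Quotient.mk _ c) := rfl
    rw [h1]
    exact IsFractionRing.lift_algebraMap hg₀ _
  letI : Algebra q.asIdeal.ResidueField F := g.toAlgebra
  let l : AlgebraicClosure q.asIdeal.ResidueField →ₐ[q.asIdeal.ResidueField] F := IsAlgClosed.lift
  have hl : ∀ c, l (pt q c) = α (ψ c) := by
    intro c
    rw [← hg]
    exact l.commutes _
  let V₁ : ValuationSubring (AlgebraicClosure q.asIdeal.ResidueField) := V'.comap (l : _ →+* F)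
  have hV₁ : ∀ c, pt q c ∈ V₁ := fun c => by
    show l (pt q c) ∈ V'
    rw [hl]
    exact hV' _
  let i : Idx C := ⟨q, V₁, hV₁⟩
  let b : i.Val →+* V' := ((l : _ →+* F).comp V₁.subtype).codRestrict V' fun (x : V₁) =>
    (show l x.1 ∈ V' from x.2)
  refine ⟨i, V', inferInstance, inferInstance, inferInstance, α.codRestrict V' hV', b,
    isAIC_valuationSubring V', ?_, ?_, ?_, ?_, ?_⟩
  · intro x y hxy
    exact hα (congrArg Subtype.val hxy)
  · refine ⟨fun x hx => ?_⟩
    have := (hunit x).mp hx
    rwa [mem_maximalIdeal, mem_nonunits_iff, not_not] at this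
  · intro x y hxy
    exact Subtype.ext ((l : _ →+* F).injective (congrArg Subtype.val hxy))
  · refine ⟨fun x hx => ?_⟩
    obtain ⟨y, hy⟩ := hx.exists_right_inv
    have hy' : l x.1 * y.1 = 1 := congrArg Subtype.val hy
    have hx0 : x.1 ≠ 0 := by
      intro h0
      rw [h0, map_zero, zero_mul] at hy'
      exact zero_ne_one hy'
    have hinv : (x.1)⁻¹ ∈ V₁ := by
      show l (x.1)⁻¹ ∈ V'
      rw [map_inv₀, ← eq_inv_of_mul_eq_one_right hy']
      exact y.2
    exact IsUnit.of_mul_eq_one ⟨_, hinv⟩ (Subtype.ext (mul_inv_cancel₀ hx0))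
  · ext c
    exact (hl c).symm

end K147.VR
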