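import Groth.Agent.EtDual.K147.SpecF
import Groth.Agent.EtDual.K147.HasCover
import Groth.Agent.EtDual.K933.PerfCat
import Groth.Agent.EtDual.K152.Fib

/-!
# Universal descent for the complex with supports on `R₀`-algebras: the glue (seat 147)

`F : D ⥤ Over Y` any functor, `e : Y₀ ⟶ Y`, `KF e A = ker (A ⟶ A(- ×_Y Y₀))` (seat 152).
* `ud_KF_of`: `UD (rs F.op A) f → UD (rs (F ⋙ E e).op A) f → UD (rs F.op (KF e A)) f`;
* `isPullback_E`, `isPullback_ptO`, `isPullback_ptO_E`: the maps `F(f)`, for `F = ptO x`, `ptO x ⋙ E e`, are base changes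
  of `Spec R' ⟶ Spec R`; the objects are quasi-compact and quasi-separated.
-/

set_option autoImplicit false

universe u v w u' v'

open CategoryTheory CategoryTheory.Limits AlgebraicGeometry Opposite ComplexShape

namespace K147.Glue

open K781.Desc K933.UnivDesc K617.UDQuasi K617.VC K617.TauDesc K933.PerfCat K152.Fib

section general

variable {C : Type u} [Category.{v} C] [HasPullbacks C] {Y₀ Y : C} (e : Y₀ ⟶ Y)
  {D : Type u'} [Category.{v'} D]

theorem ud_KF_of {A : CochainComplex ((Over Y)ᵒᵖ ⥤ AddCommGrpCat.{w}) ℤ} (hA : BB A)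
    (hS : (SK e A).ShortExact) (F : D ⥤ Over Y) {X T : D} {f : X ⟶ T} (h1 : UD (rs F.op A) f)
    (h2 : UD (rs (F ⋙ E e).op A) f) : UD (rs F.op (KF e A)) f :=
  ud_rs_ses (S := SK e A) hS (bb_KF hA) hA (bb_rs hA _) F h1 h2

theorem isPullback_E {V V' : Over Y} (f : V' ⟶ V) :
    IsPullback (pullback.fst V'.hom e) ((E e).map f).left f.left (pullback.fst V.hom e) :=
  isPullback_bcF f

end general

theorem mem_radical_map {A B : Type*} [CommRing A] [CommRing B] (φ : A →+* B) {ι : Type*} {x : ι → A}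
    {w : A} (h : w ∈ (Ideal.span (Set.range x)).radical) :
    φ w ∈ (Ideal.span (Set.range fun i => φ (x i))).radical := by
  have h1 := Ideal.map_radical_le φ (I := Ideal.span (Set.range x)) (Ideal.mem_map_of_mem φ h)
  rwa [Ideal.map_span, ← Set.range_comp] at h1

theorem compactSpace_bcF {Y₀ Y : Scheme.{u}} (j : Y₀ ⟶ Y) [QuasiCompact j] (V : Over Y)
    [CompactSpace V.left] : CompactSpace ((bcF j).obj V).left := inferInstance

theorem quasiSeparatedSpace_bcF {Y₀ Y : Scheme.{u}} (j : Y₀ ⟶ Y) [QuasiSeparated j] (V : Over Y)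
    [QuasiSeparatedSpace V.left] : QuasiSeparatedSpace ((bcF j).obj V).left :=
  quasiSeparatedSpace_of_quasiSeparated (pullback.fst V.hom j)

section ptO

variable {R₀ : CommRingCat.{u}} {d : ℕ} (x : Fin d → R₀) {Y₀ : Scheme.{u}} (e : Y₀ ⟶ Spec (Pd.{u} d))

theorem ptO_map_left {X T : (Under R₀)ᵒᵖ} (f : X ⟶ T) :
    ((ptO x).map f).left = Spec.map f.unop.right := rfl

theorem isPullback_ptO {X T : (Under R₀)ᵒᵖ} (f : X ⟶ T) :
    IsPullback (𝟙 (Spec X.unop.right)) ((ptO x).map f).left (Spec.map f.unop.right)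
      (𝟙 (Spec T.unop.right)) :=
  (IsPullback.of_horiz_isIso ⟨by rw [Category.id_comp, Category.comp_id]⟩ :
    IsPullback (𝟙 (Spec X.unop.right)) (Spec.map f.unop.right) (Spec.map f.unop.right)
      (𝟙 (Spec T.unop.right)))

theorem isPullback_ptO_E {X T : (Under R₀)ᵒᵖ} (f : X ⟶ T) :
    IsPullback (pullback.fst ((ptO x).obj X).hom e) ((ptO x ⋙ E e).map f).left
      (Spec.map f.unop.right) (pullback.fst ((ptO x).obj T).hom e) :=
  isPullback_E e ((ptO x).map f)

instance (X : (Under R₀)ᵒᵖ) : IsAffine ((ptO x).obj X).left :=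
  inferInstanceAs (IsAffine (Spec _))

theorem compactSpace_ptO_E (X : (Under R₀)ᵒᵖ) [QuasiCompact e] :
    CompactSpace ((ptO x ⋙ E e).obj X).left :=
  compactSpace_bcF e ((ptO x).obj X)

theorem quasiSeparatedSpace_ptO_E (X : (Under R₀)ᵒᵖ) [QuasiSeparated e] :
    QuasiSeparatedSpace ((ptO x ⋙ E e).obj X).left :=
  quasiSeparatedSpace_bcF e ((ptO x).obj X)

end ptO

end K147.Glue
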