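import Groth.Agent.EtDual.K147.Glue
import Groth.Agent.EtDual.K855.VDesc
import Groth.Agent.EtDual.K617.PerfUD

/-!
# V-descent for the complex with supports (seat 147)

`hv` : `HV (KF e (psh J)) x` for every ring `R₀`, `x : Fin d → R₀`: the input `HV` of `K617.PerfUD`.
-/

set_option autoImplicit false
set_option backward.isDefEq.respectTransparency false
set_option backward.isDefEq.respectTransparency.types false

universe u v w u' v'

open CategoryTheory CategoryTheory.Limits AlgebraicGeometry Opposite ComplexShape

noncomputable section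

namespace K147.Glue

open K781.Desc K933.UnivDesc K617.UDQuasi K617.VC K617.TauDesc K933.PerfCat K152.Fib
open K343.Basic K224.BigEx K855.HomCmp K617.PerfUD

attribute [local instance] isGrothendieckAbelian_AbK

section inj

variable {K : GrothendieckTopology Scheme.{u}} {Y : Scheme.{u}}

theorem injective_cochainComplex {G : AbK K Y} (J : InjectiveResolution G) (i : ℤ) :
    Injective (J.cochainComplex.X i) := by
  by_cases hi : 0 ≤ i
  · obtain ⟨n, rfl⟩ := Int.eq_ofNat_of_zero_le hi
    exact Injective.of_iso (J.cocomplex.extendXIso embeddingUpNat (i := n) rfl).symm (J.injective n)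
  · exact Injective.of_iso (IsZero.iso (isZero_zero _)
      (HomologicalComplex.isZero_extend_X _ embeddingUpNat i (fun j => by
        change (j : ℤ) ≠ i
        lia))) inferInstance

theorem bb_psh {G : AbK K Y} (J : InjectiveResolution G) : BB (psh J) :=
  ⟨0, fun i hi => isZero_psh J i hi⟩

variable {Y₀ : Scheme.{u}} (e : Y₀ ⟶ Y) [Mono e]

theorem shortExact_SK_psh {G : AbK K Y} (J : InjectiveResolution G) : (SK e (psh J)).ShortExact :=
  shortExact_SK e J.cochainComplex (injective_cochainComplex J)

end inj

section HV

variable {d : ℕ} {Y₀ : Scheme.{u}} (e : Y₀ ⟶ Spec (Pd.{u} d)) [Mono e] [QuasiCompact e]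
  {F : EtCoh.Ab (Spec (Pd.{u} d))} (hF : EtCoh.IsTorsion F) [ContK HTop.phTopology (Spec (Pd.{u} d))]
  (J : InjectiveResolution ((aPullK HTop.phTopology (Spec (Pd.{u} d))).obj F))

include hF in
/-- **V-descent** for the complex with supports, on the category of `R₀`-algebras. -/
theorem hv {R₀ : CommRingCat.{u}} (x : Fin d → R₀) : HV (KF e (psh J)) x := by
  intro X T f hf
  refine ud_KF_of e (bb_psh J) (shortExact_SK_psh e J) (ptO x) ?_ ?_
  · exact K855.VDesc.ud hF J (ptO x) (fun X => inferInstanceAs (CompactSpace (Spec _)))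
      (fun X => inferInstanceAs (QuasiSeparatedSpace (Spec _))) f f.unop.right hf _ _ (isPullback_ptO x f)
  · exact K855.VDesc.ud hF J (ptO x ⋙ E e) (fun X => compactSpace_ptO_E x e X)
      (fun X => quasiSeparatedSpace_ptO_E x e X) f f.unop.right hf _ _ (isPullback_ptO_E x e f)

end HV

end K147.Glue
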