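import Groth.Agent.EtDual.K147.ComplVal
import Groth.Agent.EtDual.K147.Common

/-!
# Universal property of completions; complete common extensions
-/

set_option autoImplicit false

universe u v

open IsLocalRing
open Groth.Agent.Flat2E.AIC1 (IsAIC)

namespace K147.VR

/-- separated and complete for the `w`-adic topology (elementwise form) -/
structure SepCompl {Z : Type*} [CommRing Z] (w : Z) : Prop where
  haus : ∀ x : Z, (∀ n : ℕ, w ^ n ∣ x) → x = 0
  compl : ∀ s : ℕ → Z, (∀ n, w ^ n ∣ s (n + 1) - s n) → ∃ x, ∀ n, w ^ n ∣ x - s n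

theorem SepCompl.isWCompl {Z : Type*} [CommRing Z] {w : Z} (h : SepCompl w) :
    IsWCompl w (RingHom.id Z) where
  surj := fun _ x => ⟨x, by simp⟩
  inj := fun _ _ h => h
  haus := h.haus
  compl := h.compl

theorem SepCompl.isAdicComplete {Z : Type*} [CommRing Z] {w : Z} (h : SepCompl w) :
    IsAdicComplete (Ideal.span {w}) Z := h.isWCompl.isAdicComplete

theorem sepCompl_of_isAdicComplete {Z : Type*} [CommRing Z] (w : Z)
    [IsAdicComplete (Ideal.span {w}) Z] : SepCompl w :=
  have : IsAdicComplete (Ideal.span {(RingHom.id Z) w}) Z := by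
    rw [RingHom.id_apply]
    infer_instance
  have h := isWCompl_of_isAdicComplete w (RingHom.id Z) (fun _ x => ⟨x, by simp⟩)
    (fun _ _ h => h)
  ⟨h.haus, h.compl⟩

section Lift

variable {V W Z : Type*} [CommRing V] [CommRing W] [CommRing Z]

theorem IsWCompl.sepCompl {w : V} {c : V →+* W} (h : IsWCompl w c) : SepCompl (c w) :=
  ⟨h.haus, h.compl⟩

theorem IsWCompl.exists_lift_apply {w : V} {c : V →+* W} (h : IsWCompl w c) (g : V →+* Z)
    (hg : SepCompl (g w)) (x : W) :
    ∃ z : Z, ∀ (n : ℕ) (y : V), (c w) ^ n ∣ x - c y → (g w) ^ n ∣ z - g y := by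
  choose y hy using fun n => h.surj n x
  have key : ∀ (n : ℕ) (a b : V), (c w) ^ n ∣ x - c a → (c w) ^ n ∣ x - c b →
      (g w) ^ n ∣ g a - g b := by
    intro n a b ha hb
    have h1 : (c w) ^ n ∣ c (a - b) := by
      rw [map_sub]
      have : c a - c b = (x - c b) - (x - c a) := by ring
      rw [this]
      exact dvd_sub hb ha
    rw [← map_sub, ← map_pow]
    exact map_dvd g (h.inj n _ h1)
  obtain ⟨z, hz⟩ := hg.compl (fun n => g (y n)) (fun n =>
    key n _ _ ((pow_dvd_pow _ (Nat.le_succ n)).trans (hy (n + 1))) (hy n))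
  refine ⟨z, fun n a ha => ?_⟩
  have : z - g a = (z - g (y n)) + (g (y n) - g a) := by ring
  rw [this]
  exact dvd_add (hz n) (key n _ _ (hy n) ha)

theorem IsWCompl.lift_unique {w : V} {c : V →+* W} (h : IsWCompl w c) (g : V →+* Z)
    (hg : SepCompl (g w)) (x : W) {z z' : Z}
    (hz : ∀ (n : ℕ), ∃ (y : V), (c w) ^ n ∣ x - c y ∧ (g w) ^ n ∣ z - g y)
    (hz' : ∀ (n : ℕ) (y : V), (c w) ^ n ∣ x - c y → (g w) ^ n ∣ z' - g y) : z = z' := by
  rw [← sub_eq_zero]
  refine hg.haus _ fun n => ?_
  obtain ⟨y, hy, hzy⟩ := hz n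
  have : z - z' = (z - g y) - (z' - g y) := by ring
  rw [this]
  exact dvd_sub hzy (hz' n y hy)

/-- the universal property of the `w`-adic completion -/
theorem IsWCompl.exists_lift {w : V} {c : V →+* W} (h : IsWCompl w c) (g : V →+* Z)
    (hg : SepCompl (g w)) : ∃ G : W →+* Z, G.comp c = g := by
  choose G hG using h.exists_lift_apply g hg
  have hGe : ∀ (x : W) (z : Z), (∀ (n : ℕ), ∃ (y : V), (c w) ^ n ∣ x - c y ∧ (g w) ^ n ∣ z - g y) →
      z = G x := fun x z hz => h.lift_unique g hg x hz (hG x)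
  refine ⟨{ toFun := G, map_one' := ?_, map_mul' := ?_, map_zero' := ?_, map_add' := ?_ }, ?_⟩
  · exact (hGe 1 1 fun n => ⟨1, by simp, by simp⟩).symm
  · intro x y
    refine (hGe _ _ fun n => ?_).symm
    obtain ⟨a, ha⟩ := h.surj n x
    obtain ⟨b, hb⟩ := h.surj n y
    refine ⟨a * b, ?_, ?_⟩
    · have : x * y - c (a * b) = (x - c a) * y + c a * (y - c b) := by rw [map_mul]; ring
      rw [this]
      exact dvd_add (ha.mul_right _) (hb.mul_left _)
    · have : G x * G y - g (a * b) = (G x - g a) * G y + g a * (G y - g b) := by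
        rw [map_mul]; ring
      rw [this]
      exact dvd_add ((hG x n a ha).mul_right _) ((hG y n b hb).mul_left _)
  · exact (hGe 0 0 fun n => ⟨0, by simp, by simp⟩).symm
  · intro x y
    refine (hGe _ _ fun n => ?_).symm
    obtain ⟨a, ha⟩ := h.surj n x
    obtain ⟨b, hb⟩ := h.surj n y
    refine ⟨a + b, ?_, ?_⟩
    · have : x + y - c (a + b) = (x - c a) + (y - c b) := by rw [map_add]; ring
      rw [this]
      exact dvd_add ha hb
    · have : G x + G y - g (a + b) = (G x - g a) + (G y - g b) := by rw [map_add]; ring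
      rw [this]
      exact dvd_add (hG x n a ha) (hG y n b hb)
  · ext x
    exact (hGe (c x) (g x) fun n => ⟨x, by simp, by simp⟩).symm

theorem IsWCompl.hom_ext {w : V} {c : V →+* W} (h : IsWCompl w c) {G G' : W →+* Z}
    (hg : ∀ x : Z, (∀ n : ℕ, (G (c w)) ^ n ∣ x) → x = 0) (he : G.comp c = G'.comp c) : G = G' := by
  ext x
  rw [← sub_eq_zero]
  refine hg _ fun n => ?_
  obtain ⟨y, hy⟩ := h.surj n x
  have he' : ∀ y, G (c y) = G' (c y) := fun y => RingHom.congr_fun he y
  have h1 : G x - G' x = G (x - c y) - G' (x - c y) := by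
    rw [map_sub, map_sub, he']; ring
  rw [h1]
  refine dvd_sub ?_ ?_
  · rw [← map_pow]; exact map_dvd G hy
  · rw [he', ← map_pow]; exact map_dvd G' hy

end Lift

section Val

variable {V V' : Type*} [CommRing V] [IsDomain V] [ValuationRing V] [CommRing V'] [IsDomain V']
  [ValuationRing V']

theorem map_dvd_iff (a : V →+* V') (ha : Function.Injective a) [IsLocalHom a] (x y : V) :
    a x ∣ a y ↔ x ∣ y := by
  refine ⟨fun h => ?_, fun h => map_dvd a h⟩
  rcases dvd_or_exists_nonunit x y with h1 | ⟨t, ht, h1⟩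
  · exact h1
  · obtain ⟨s, hs⟩ := h
    have h2 : a y = 0 := eq_zero_of_eq_mul_nonunit (t := a t) (fun h => ht (isUnit_of_map_unit a t h))
      s (by conv_lhs => rw [hs, h1, map_mul]
            ring)
    rw [(map_eq_zero_iff a ha).mp h2]
    exact dvd_zero _

end Val

/-- A dominating a.i.c. valuation ring may be completed: if `V` is `w`-adically separated and `V → V'` is an
extension of valuation rings, then `V → V'^` is an extension of valuation rings. -/
theorem injective_completion {V V' W : Type*} [CommRing V] [IsDomain V] [ValuationRing V]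
    [CommRing V'] [IsDomain V'] [ValuationRing V'] [CommRing W] (w : V)
    (hV : ∀ x : V, (∀ n : ℕ, w ^ n ∣ x) → x = 0) (a : V →+* V') (ha : Function.Injective a)
    [IsLocalHom a] {c : V' →+* W} (hc : IsWCompl (a w) c) : Function.Injective (c.comp a) := by
  rw [injective_iff_map_eq_zero]
  intro x hx
  refine hV x fun n => ?_
  have := (hc.map_eq_zero_iff).mp hx n
  rwa [← map_pow, map_dvd_iff a ha] at this

end K147.VR
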