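import Groth.Agent.EtDual.K147.Cover
import Groth.Agent.EtDual.K148.Perf

/-!
# Coverings of perfect rings by products of perfect complete a.i.c. valuation rings (seat 147)

`exists_perf_cover`: `B` perfect of characteristic `p` (`IsPerf p B`, the zero ring is allowed), `w : B`.  There is
`TauCov w`-map `B →+* ∀ i, V i` with `IsAicc (V i) w` and `V i`, `∀ i, V i` perfect.
-/

set_option autoImplicit false

universe u v

open Polynomial
open K617.VC K148.Perf

namespace K147.VR

variable {p : ℕ} [hp : Fact p.Prime]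

/-- an absolutely integrally closed domain of characteristic `p` is perfect -/
theorem isPerf_of_isAIC {V : Type u} [CommRing V] [IsDomain V] (h : Curves.IsAIC V)
    (h0 : (p : V) = 0) : IsPerf p V := by
  have : CharP V p := by
    obtain ⟨q, hq⟩ := CharP.exists V
    have h1 : q ∣ p := (CharP.cast_eq_zero_iff V q p).mp h0
    rcases (Nat.dvd_prime hp.out).mp h1 with h2 | h2
    · exact absurd h2 (CharP.char_ne_one V q)
    · rwa [← h2]
  refine ⟨h0, ?_, ?_⟩
  · exact frobenius_inj V p
  · intro a
    obtain ⟨r, hr⟩ := h (X ^ p - C a) (monic_X_pow_sub_C a hp.out.ne_zero)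
      (by rw [natDegree_X_pow_sub_C]; exact hp.out.pos)
    refine ⟨r, ?_⟩
    rw [eval_sub, eval_pow, eval_X, eval_C, sub_eq_zero] at hr
    exact hr

theorem isPerf_of_isAicc {V : Type u} [CommRing V] {w : V} (h : IsAicc V w) (h0 : (p : V) = 0) :
    IsPerf p V :=
  have := h.isDomain
  isPerf_of_isAIC h.aic h0

/-- every perfect ring is `w`-covered by a product of perfect complete a.i.c. valuation rings -/
theorem exists_perf_cover {B : Type u} [CommRing B] (hB : IsPerf p B) (w : B) :
    ∃ (I : Type u) (V : I → Type u) (_ : ∀ i, CommRing (V i)) (φ : B →+* ∀ i, V i),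
      (∀ i, IsAicc (V i) (φ w i)) ∧ (∀ i, IsPerf p (V i)) ∧ IsPerf p (∀ i, V i) ∧ TauCov w φ := by
  obtain ⟨I, V, _, φ, hV, hφ⟩ := exists_prod_tauCov B w
  have h0 : ∀ i, (p : V i) = 0 := fun i => by
    have : (((Pi.evalRingHom V i).comp φ) (p : B)) = 0 := by rw [hB.1, map_zero]
    rwa [map_natCast] at this
  have h1 : ∀ i, IsPerf p (V i) := fun i => isPerf_of_isAicc (hV i) (h0 i)
  exact ⟨I, V, inferInstance, φ, hV, h1, IsPerf.pi h1, hφ⟩

end K147.VR
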