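import Groth.Agent.EtDual.K617.TauDescCE
import Groth.Agent.EtDual.K933.UDMap
import Groth.Agent.EtDual.K933.UDSes
import Mathlib.AlgebraicGeometry.Morphisms.QuasiSeparated

/-!
# The functor `Spec` from algebras to schemes over `Spec P`, and base change to an open subscheme (seat 147)

* `specF φ : (Under R)ᵒᵖ ⥤ Over (Spec P)` for `φ : P ⟶ R`; it preserves pullbacks, its values are affine;
* `bcF j : Over Y ⥤ Over Y`, `V ↦ V ×_Y Y₀`, for `j : Y₀ ⟶ Y`; it preserves pullbacks;
* `isPullback_bcF`: `bcF j` turns morphisms into base changes of these.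
-/

set_option autoImplicit false

universe u v w u' v'

open CategoryTheory CategoryTheory.Limits AlgebraicGeometry Opposite

namespace K147.Glue

section specF

variable {P R : CommRingCat.{u}} (φ : P ⟶ R)

/-- `Spec` as a functor to schemes over `Spec P`. -/
@[simps]
noncomputable def specF : (Under R)ᵒᵖ ⥤ Over (Spec P) where
  obj X := Over.mk (Spec.map (φ ≫ X.unop.hom))
  map {X Y} f := Over.homMk (Spec.map f.unop.right) (by
    simp only [Over.mk_hom, ← Spec.map_comp, Category.assoc, Under.w])
  map_id X := by
    apply Over.OverMorphism.ext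
    simp
  map_comp f g := by
    apply Over.OverMorphism.ext
    simp

noncomputable def specFForget : specF φ ⋙ Over.forget (Spec P) ≅ (Under.forget R).op ⋙ Scheme.Spec :=
  NatIso.ofComponents (fun _ => Iso.refl _) (fun _ =>
    (Category.comp_id _).trans (Category.id_comp _).symm)

instance : PreservesLimitsOfShape WalkingCospan (specF φ) := by
  have h1 : PreservesColimitsOfShape WalkingCospanᵒᵖ (Under.forget R) := inferInstance
  have h2 : PreservesLimitsOfShape WalkingCospan (Under.forget R).op := preservesLimitsOfShape_op _ _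
  have h3 : PreservesLimitsOfShape WalkingCospan ((Under.forget R).op ⋙ Scheme.Spec) := inferInstance
  have h4 : PreservesLimitsOfShape WalkingCospan (specF φ ⋙ Over.forget (Spec P)) :=
    preservesLimitsOfShape_of_natIso (specFForget φ).symm
  exact preservesLimitsOfShape_of_reflects_of_preserves _ (Over.forget (Spec P))

instance (X : (Under R)ᵒᵖ) : IsAffine ((specF φ).obj X).left :=
  inferInstanceAs (IsAffine (Spec _))

end specF

section bcF

variable {C : Type u'} [Category.{v'} C] [HasPullbacks C] {Y₀ Y : C} (j : Y₀ ⟶ Y)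

/-- `V ↦ V ×_Y Y₀` as a functor from `Over Y` to itself. -/
noncomputable abbrev bcF : Over Y ⥤ Over Y := Over.pullback j ⋙ Over.map j

instance preservesMap : PreservesLimitsOfShape WalkingCospan (Over.map j) := by
  have h : PreservesLimitsOfShape WalkingCospan (Over.map j ⋙ Over.forget Y) :=
    preservesLimitsOfShape_of_natIso (Over.mapForget j).symm
  exact preservesLimitsOfShape_of_reflects_of_preserves _ (Over.forget Y)

instance preservesBcF : PreservesLimitsOfShape WalkingCospan (bcF j) := inferInstance

variable {j}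

theorem isPullback_bcF {V V' : Over Y} (f : V' ⟶ V) :
    IsPullback (pullback.fst V'.hom j) ((bcF j).map f).left f.left (pullback.fst V.hom j) := by
  have t : IsPullback (pullback.snd V.hom j) (pullback.fst V.hom j) j V.hom :=
    (IsPullback.of_hasPullback V.hom j).flip
  have e1 : ((bcF j).map f).left ≫ pullback.snd V.hom j = pullback.snd V'.hom j :=
    pullback.lift_snd _ _ _
  have e2 : ((bcF j).map f).left ≫ pullback.fst V.hom j = pullback.fst V'.hom j ≫ f.left :=
    pullback.lift_fst _ _ _
  have s : IsPullback (((bcF j).map f).left ≫ pullback.snd V.hom j) (pullback.fst V'.hom j) j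
      (f.left ≫ V.hom) := by
    rw [e1, Over.w]
    exact (IsPullback.of_hasPullback V'.hom j).flip
  exact (IsPullback.of_right s e2 t).flip

end bcF

section qcqs

variable {Y₀ Y : Scheme.{u}} (j : Y₀ ⟶ Y) [QuasiCompact j] [QuasiSeparated j]

instance (V : Over Y) [CompactSpace V.left] : CompactSpace ((bcF j).obj V).left :=
  QuasiCompact.compactSpace_of_compactSpace (pullback.fst V.hom j)

instance (V : Over Y) [QuasiSeparatedSpace V.left] : QuasiSeparatedSpace ((bcF j).obj V).left :=
  quasiSeparatedSpace_of_quasiSeparated (pullback.fst V.hom j)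

end qcqs

section ses

open ComplexShape K781.Desc K933.UnivDesc K617.UDQuasi

variable {C : Type u} [Category.{v} C] {D : Type u'} [Category.{v'} D]

theorem shortExact_rs {S : ShortComplex (CochainComplex (Cᵒᵖ ⥤ AddCommGrpCat.{w}) ℤ)} (hS : S.ShortExact)
    (σ : D ⥤ Cᵒᵖ) : (rS σ S).ShortExact := by
  apply HomologicalComplex.shortExact_of_degreewise_shortExact
  intro i
  exact (hS.map_of_exact (HomologicalComplex.eval _ (up ℤ) i)).map_of_exact
    ((Functor.whiskeringLeft _ _ AddCommGrpCat.{w}).obj σ)

/-- Universal descent for the kernel in a short exact sequence, restricted along a functor. -/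
theorem ud_rs_ses {S : ShortComplex (CochainComplex (Cᵒᵖ ⥤ AddCommGrpCat.{w}) ℤ)} (hS : S.ShortExact)
    (h1 : BB S.X₁) (h2 : BB S.X₂) (h3 : BB S.X₃) (F : D ⥤ C) {X T : D} {f : X ⟶ T}
    (d2 : UD (rs F.op S.X₂) f) (d3 : UD (rs F.op S.X₃) f) : UD (rs F.op S.X₁) f :=
  UD.ses₁ (S := rS F.op S) (shortExact_rs hS F.op) (bb_rs h1 _) (bb_rs h2 _) (bb_rs h3 _) d2 d3

theorem qMap_rs_iff (A : CochainComplex (Cᵒᵖ ⥤ AddCommGrpCat.{w}) ℤ) (F : D ⥤ C) {X T : D} (f : X ⟶ T) :
    QMap (rs F.op A) f ↔ QMap A (F.map f) := Iff.rfl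

end ses

end K147.Glue
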